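import Cfsg.Agent.H96.Tall.Engine

/-!
# S2927: central quotients of odd order (helper96)

`π : G → H` surjective, `ker π` central without 2-elements: the two parabolics of `G` give the two parabolics of `H`.
-/

set_option autoImplicit false

namespace Cfsg.Agent.H96.Tall

open Subgroup Cfsg Cfsg.Agent.H226.Tall

section Quot

variable {G H : Type*} [Group G] [Group H] [Finite G] {π : G →* H} (hs : Function.Surjective π)
  (hz : ∀ z ∈ π.ker, ∀ g : G, z * g = g * z) (ho : ∀ z ∈ π.ker, ∀ n : ℕ, z ^ 2 ^ n = 1 → z = 1)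

include hz ho

/-- 2-elements with the same image are equal -/
theorem eq_of_map_eq {a b : G} (h : π a = π b) {m n : ℕ} (ha : a ^ 2 ^ m = 1) (hb : b ^ 2 ^ n = 1) : a = b := by
  have h1 : a * b⁻¹ ∈ π.ker := by
    rw [MonoidHom.mem_ker, map_mul, map_inv, h, mul_inv_cancel]
  have h2 : a = (a * b⁻¹) * b := by group
  have h3 : Commute (a * b⁻¹) b := hz _ h1 b
  have h4 : (a * b⁻¹) ^ 2 ^ (m + n) = 1 := by
    have h5 : a ^ 2 ^ (m + n) = (a * b⁻¹) ^ 2 ^ (m + n) * b ^ 2 ^ (m + n) := by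
      conv_lhs => rw [h2]
      exact h3.mul_pow _
    have h6 : a ^ 2 ^ (m + n) = 1 := by rw [pow_add, pow_mul, ha, one_pow]
    have h7 : b ^ 2 ^ (m + n) = 1 := by rw [pow_add, mul_comm, pow_mul, hb, one_pow]
    rw [h6, h7, mul_one] at h5
    exact h5.symm
  have h5 := ho _ h1 _ h4
  rw [h2, h5, one_mul]

theorem ne_one_of_map {a : G} (ha1 : a ≠ 1) {m : ℕ} (ha : a ^ 2 ^ m = 1) : π a ≠ 1 := by
  intro h
  exact ha1 (eq_of_map_eq hz ho (a := a) (b := 1) (by rw [h, map_one]) ha (n := 0) (one_pow _))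

include hs

/-- `O₂(M)` is the image of `{x ∈ S : π x ∈ O₂(M)} ≤ O₂(π⁻¹ M)` -/
theorem O2_comap (S : Sylow 2 G) {M : Subgroup H} (hM : (S : Subgroup G).map π ≤ M) :
    O2 M ≤ (O2 (M.comap π)).map π := by
  have : Finite H := Finite.of_surjective π hs
  have hO : O2 M ≤ (S : Subgroup G).map π := by
    have h1 : (S : Subgroup G).map π = ((S.mapSurjective hs : Sylow 2 H) : Subgroup H) := rfl
    rw [h1]
    exact O2_le_sylow (by rw [← h1]; exact hM)
  let Q : Subgroup G := (S : Subgroup G) ⊓ (O2 M).comap π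
  have hQ : Q ≤ O2 (M.comap π) := by
    refine le_O2 ?_ ?_ (S.isPGroup'.to_le inf_le_left)
    · rintro x ⟨-, hx⟩
      exact O2_le M hx
    · rintro g hg x ⟨hx1, hx2⟩
      have h1 : π (g * x * g⁻¹) ∈ O2 M := by
        rw [map_mul, map_mul, map_inv]
        exact O2_conj_mem hg hx2
      obtain ⟨s, hs', hsx⟩ := hO h1
      obtain ⟨m, hm⟩ := S.isPGroup' ⟨x, hx1⟩
      obtain ⟨n, hn⟩ := S.isPGroup' ⟨s, hs'⟩
      have hm' : x ^ 2 ^ m = 1 := congrArg Subtype.val hm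
      have hn' : s ^ 2 ^ n = 1 := congrArg Subtype.val hn
      have h2 : s = g * x * g⁻¹ := by
        refine eq_of_map_eq hz ho hsx hn' (n := m) ?_
        rw [conj_pow, hm', mul_one, mul_inv_cancel]
      rw [← h2]
      refine ⟨hs', ?_⟩
      show π s ∈ O2 M
      rw [hsx]
      exact h1
  intro y hy
  obtain ⟨s, hs', rfl⟩ := hO hy
  exact ⟨s, hQ ⟨hs', hy⟩, rfl⟩

theorem O2_map_ne' {P₁ : Subgroup G} (h : O2 P₁ ≠ ⊥) : O2 (P₁.map π) ≠ ⊥ := by
  obtain ⟨x, hx, hx1⟩ : ∃ x : G, x ∈ O2 P₁ ∧ x ≠ 1 := by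
    by_contra h1
    push Not at h1
    exact h ((Subgroup.eq_bot_iff_forall _).2 h1)
  have h1 : (O2 P₁).map π ≤ O2 (P₁.map π) := by
    refine le_O2 (map_mono (O2_le _)) ?_ ((O2_isPGroup _).map _)
    rintro _ ⟨g, hg, rfl⟩ _ ⟨n, hn, rfl⟩
    exact ⟨g * n * g⁻¹, O2_conj_mem hg hn, by simp⟩
  intro h2
  rw [h2, le_bot_iff] at h1
  have h3 : π x ∈ (O2 P₁).map π := ⟨x, hx, rfl⟩
  rw [h1, Subgroup.mem_bot] at h3
  obtain ⟨m, hm⟩ := O2_isPGroup P₁ ⟨x, hx⟩
  exact ne_one_of_map hz ho hx1 (m := m) (congrArg Subtype.val hm) h3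

/-- **The parabolics of the quotient.** -/
theorem RTwo.quot (S : Sylow 2 G) {P₁ P₂ : Subgroup G} (h : RTwo (S : Subgroup G) P₁ P₂) (hk1 : π.ker ≤ P₁)
    (hk2 : π.ker ≤ P₂) : RTwo ((S : Subgroup G).map π) (P₁.map π) (P₂.map π) where
  le1 := map_mono h.le1
  le2 := map_mono h.le2
  inf := by
    rintro _ ⟨⟨a, ha, rfl⟩, ⟨b, hb, hab⟩⟩
    have h1 : a ∈ P₂ := by
      have h2 : a * b⁻¹ ∈ π.ker := by
        rw [MonoidHom.mem_ker, map_mul, map_inv, hab, mul_inv_cancel]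
      have h3 := mul_mem (hk2 h2) hb
      rwa [inv_mul_cancel_right] at h3
    have h2 := h.inf ⟨ha, h1⟩
    have h3 := mem_normalizer_iff.1 h2
    have h4 := mem_normalizer_iff.1 (inv_mem h2)
    rw [mem_normalizer_iff]
    intro x
    constructor
    · rintro ⟨s, hs', rfl⟩
      exact ⟨a * s * a⁻¹, (h3 s).1 hs', by simp⟩
    · rintro ⟨s, hs', hsx⟩
      refine ⟨a⁻¹ * s * a⁻¹⁻¹, (h4 s).1 hs', ?_⟩
      rw [map_mul, map_mul, map_inv, map_inv, hsx, map_inv]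
      group
  ovr := by
    intro M hM hO
    have h1 : (S : Subgroup G) ≤ M.comap π := map_le_iff_le_comap.1 hM
    have h2 : O2 (M.comap π) ≠ ⊥ := by
      intro h3
      have h4 := O2_comap hs hz ho S hM
      rw [h3, Subgroup.map_bot, le_bot_iff] at h4
      exact hO h4
    rcases h.ovr _ h1 h2 with h3 | h3
    · left
      rw [← Subgroup.map_comap_eq_self_of_surjective hs M]
      exact map_mono h3
    · right
      rw [← Subgroup.map_comap_eq_self_of_surjective hs M]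
      exact map_mono h3
  o1 := O2_map_ne' hs hz ho h.o1
  o2 := O2_map_ne' hs hz ho h.o2
  n12 := by
    intro h1
    apply h.n12
    have h2 := comap_mono (f := π) h1
    rwa [comap_map_eq, comap_map_eq, sup_eq_left.2 hk1, sup_eq_left.2 hk2] at h2
  n21 := by
    intro h1
    apply h.n21
    have h2 := comap_mono (f := π) h1
    rwa [comap_map_eq, comap_map_eq, sup_eq_left.2 hk1, sup_eq_left.2 hk2] at h2

/-- `O₂(P₁) ∩ O₂(P₂)` is centralised by `S`: the quotient -/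
theorem inf_quot (S : Sylow 2 G) {P₁ P₂ : Subgroup G} (h : RTwo (S : Subgroup G) P₁ P₂) (hk1 : π.ker ≤ P₁)
    (hk2 : π.ker ≤ P₂) (hc : ∀ x ∈ O2 P₁, x ∈ O2 P₂ → ∀ s ∈ (S : Subgroup G), x * s = s * x) :
    ∀ x ∈ O2 (P₁.map π), x ∈ O2 (P₂.map π) → ∀ s ∈ (S : Subgroup G).map π, x * s = s * x := by
  rintro x hx1 hx2 _ ⟨s, hs', rfl⟩
  have h1 := O2_comap hs hz ho S (map_mono h.le1) hx1
  have h2 := O2_comap hs hz ho S (map_mono h.le2) hx2
  rw [comap_map_eq, sup_eq_left.2 hk1] at h1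
  rw [comap_map_eq, sup_eq_left.2 hk2] at h2
  obtain ⟨a, ha, rfl⟩ := h1
  obtain ⟨b, hb, hab⟩ := h2
  obtain ⟨m, hm⟩ := O2_isPGroup P₁ ⟨a, ha⟩
  obtain ⟨n, hn⟩ := O2_isPGroup P₂ ⟨b, hb⟩
  have h3 : b = a := eq_of_map_eq hz ho hab (congrArg Subtype.val hn) (congrArg Subtype.val hm)
  rw [h3] at hb
  rw [← map_mul, hc a ha hb s hs', map_mul]

end Quot

open scoped Pointwise in
/-- replace an isomorphism such that `S₁` goes to a given Sylow 2-subgroup -/
theorem exists_equiv' {K G : Type*} [Group K] [Group G] [Finite G] (e : K ≃* G) (S₁ : Sylow 2 K) (S₀ : Sylow 2 G) :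
    ∃ e' : K ≃* G, (S₁ : Subgroup K).map e'.toMonoidHom = S₀ := by
  have : Finite K := Finite.of_equiv _ e.symm.toEquiv
  let S' : Sylow 2 G := S₁.mapSurjective (f := e.toMonoidHom) e.surjective
  obtain ⟨g, hg⟩ := MulAction.exists_smul_eq G S' S₀
  refine ⟨e.trans (MulAut.conj g), ?_⟩
  rw [← hg]
  ext x
  constructor
  · rintro ⟨s, hs, rfl⟩
    show g * e s * g⁻¹ ∈ MulAut.conj g • (S' : Subgroup G)
    exact Subgroup.smul_mem_pointwise_smul (e s) (MulAut.conj g) _ ⟨s, hs, rfl⟩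
  · intro hx
    have hx' : x ∈ MulAut.conj g • (S' : Subgroup G) := hx
    rw [Subgroup.mem_pointwise_smul_iff_inv_smul_mem] at hx'
    obtain ⟨s, hs, h1⟩ := hx'
    refine ⟨s, hs, ?_⟩
    have h2 : e s = g⁻¹ * x * g := by
      have h3 : e s = (MulAut.conj g)⁻¹ • x := h1
      rw [h3, ← map_inv]
      show g⁻¹ * x * g⁻¹⁻¹ = _
      rw [inv_inv]
    show g * e s * g⁻¹ = x
    rw [h2]
    group

end Cfsg.Agent.H96.Tall
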