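import Cfsg.Agent.H96.Tall.Rank
import Cfsg.Agent.H96.Tall.Quot
import Mathlib.LinearAlgebra.Matrix.ProjectiveSpecialLinearGroup
import Mathlib.LinearAlgebra.Matrix.Transvection

/-!
# S2927, LL3 : `PSL_3(2^k)` is not a component (helper96)
-/

set_option autoImplicit false
set_option linter.unusedSectionVars false

namespace Cfsg.Agent.H96.Tall.L3

open Subgroup Cfsg Cfsg.Agent.H226.Tall Module Cfsg.Agent.H96.Tall.Lin Cfsg.Agent.H96.Tall
open Matrix (SpecialLinearGroup)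

universe u

variable {F : Type*} [Field F]

/-- the natural representation -/
def rho (F : Type*) [Field F] : SpecialLinearGroup (Fin 3) F →* Module.End F (Fin 3 → F) where
  toFun A := Matrix.mulVecLin (A : Matrix (Fin 3) (Fin 3) F)
  map_one' := Matrix.mulVecLin_one
  map_mul' _ _ := Matrix.mulVecLin_mul _ _

theorem rho_apply (A : SpecialLinearGroup (Fin 3) F) (v : Fin 3 → F) :
    rho F A v = Matrix.mulVec (A : Matrix (Fin 3) (Fin 3) F) v := rfl

theorem rho_injective : Function.Injective (rho F) := by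
  intro A B h
  apply Subtype.ext
  rw [← Matrix.mulVec_injective.eq_iff]
  funext v
  exact congrArg (fun f : Module.End F (Fin 3 → F) => f v) h

theorem rho_coord (A : SpecialLinearGroup (Fin 3) F) (v : Fin 3 → F) (i : Fin 3) :
    rho F A v i = (A : Matrix (Fin 3) (Fin 3) F) i 0 * v 0 + (A : Matrix (Fin 3) (Fin 3) F) i 1 * v 1 +
      (A : Matrix (Fin 3) (Fin 3) F) i 2 * v 2 := by
  rw [rho_apply, Matrix.mulVec, dotProduct, Fin.sum_univ_three]

/-- the regular unipotent element -/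
def uel (F : Type*) [Field F] : SpecialLinearGroup (Fin 3) F :=
  ⟨!![1, 1, 0; 0, 1, 1; 0, 0, 1], by simp [Matrix.det_fin_three]⟩

/-- `N = u - 1` -/
def N (F : Type*) [Field F] : Module.End F (Fin 3 → F) := rho F (uel F) - 1

theorem hu (v : Fin 3 → F) : N F v = rho F (uel F) v - v := rfl

theorem N0 (v : Fin 3 → F) : N F v 0 = v 1 := by
  rw [hu, Pi.sub_apply, rho_coord]
  simp [uel]

theorem N1 (v : Fin 3 → F) : N F v 1 = v 2 := by
  rw [hu, Pi.sub_apply, rho_coord]
  simp [uel]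

theorem N2 (v : Fin 3 → F) : N F v 2 = 0 := by
  rw [hu, Pi.sub_apply, rho_coord]
  simp [uel]

theorem eq_zero_iff (v : Fin 3 → F) : v = 0 ↔ v 0 = 0 ∧ v 1 = 0 ∧ v 2 = 0 := by
  constructor
  · rintro rfl
    exact ⟨rfl, rfl, rfl⟩
  · rintro ⟨h0, h1, h2⟩
    ext i
    fin_cases i
    · exact h0
    · exact h1
    · exact h2

theorem mem_fl1 (v : Fin 3 → F) : v ∈ fl (N F) 1 ↔ v 1 = 0 ∧ v 2 = 0 := by
  rw [mem_fl, pow_one, eq_zero_iff, N0, N1, N2]
  tauto

theorem mem_fl2 (v : Fin 3 → F) : v ∈ fl (N F) 2 ↔ v 2 = 0 := by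
  rw [mem_fl_succ, mem_fl1, N1, N2]
  tauto

theorem mem_fl3 (v : Fin 3 → F) : v ∈ fl (N F) 3 := by
  rw [mem_fl_succ, mem_fl2, N2]

theorem hn : N F ^ 3 = 0 := by
  apply LinearMap.ext
  intro v
  exact mem_fl.1 (mem_fl3 v)

/-- the vector `e₀` -/
def e0 (F : Type*) [Field F] : Fin 3 → F := Pi.single 0 1

theorem e0_mem : e0 F ∈ fl (N F) 1 := by
  rw [mem_fl1]
  exact ⟨rfl, rfl⟩

theorem eq_smul {v : Fin 3 → F} (hv : v ∈ fl (N F) 1) : v 0 • e0 F = v := by
  rw [mem_fl1] at hv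
  ext i
  fin_cases i
  · simp [e0]
  · simp [e0, hv.1]
  · simp [e0, hv.2]

theorem h1 : finrank F (LinearMap.ker (N F)) ≤ 1 := by
  have hle : LinearMap.ker (N F) ≤ Submodule.span F {e0 F} := by
    intro v hv
    have h2 : v ∈ fl (N F) 1 := by
      rw [mem_fl, pow_one]
      exact LinearMap.mem_ker.1 hv
    rw [Submodule.mem_span_singleton]
    exact ⟨v 0, eq_smul h2⟩
  exact (Submodule.finrank_mono hle).trans ((finrank_span_le_card _).trans (by simp))

theorem fr : finrank F (Fin 3 → F) = 3 := by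
  rw [Module.finrank_pi, Fintype.card_fin]

/-- the transvections -/
def tv (i j : Fin 3) (hij : i ≠ j) (c : F) : SpecialLinearGroup (Fin 3) F :=
  ⟨Matrix.transvection i j c, Matrix.det_transvection_of_ne i j hij c⟩

theorem rho_tv (i j : Fin 3) (hij : i ≠ j) (c : F) (v : Fin 3 → F) :
    rho F (tv i j hij c) v = v + Pi.single i (c * v j) := by
  rw [rho_apply]
  show Matrix.mulVec (Matrix.transvection i j c) v = _
  rw [Matrix.transvection, Matrix.add_mulVec, Matrix.one_mulVec, Matrix.single_mulVec]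
  rfl

variable [CharP F 2] [Finite F]

theorem tv_mem1 (i j : Fin 3) (hij : i ≠ j) (hj : j ≠ 0) (c : F) : tv i j hij c ∈ stab (rho F) (fl (N F) 1) := by
  intro v hv
  have h2 : v j = 0 := by
    rw [mem_fl1] at hv
    fin_cases j
    · exact (hj rfl).elim
    · exact hv.1
    · exact hv.2
  rw [rho_tv, h2, mul_zero, Pi.single_zero, add_zero]
  exact hv

theorem tv_mem2 (i j : Fin 3) (hij : i ≠ j) (hi : i ≠ 2) (c : F) : tv i j hij c ∈ stab (rho F) (fl (N F) 2) := by
  intro v hv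
  rw [rho_tv]
  rw [mem_fl2] at hv ⊢
  rw [Pi.add_apply, hv, Pi.single_eq_of_ne (Ne.symm hi), add_zero]

theorem n12 : ¬ stab (rho F) (fl (N F) 1) ≤ stab (rho F) (fl (N F) 2) := by
  intro h
  have h2 := h (tv_mem1 2 1 (by decide) (by decide) (1 : F)) (Pi.single 1 1) (by rw [mem_fl2]; simp)
  rw [rho_tv, mem_fl2] at h2
  simp at h2

theorem n21 : ¬ stab (rho F) (fl (N F) 2) ≤ stab (rho F) (fl (N F) 1) := by
  intro h
  have h2 := h (tv_mem2 1 0 (by decide) (by decide) (1 : F)) (e0 F) e0_mem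
  rw [rho_tv, mem_fl1] at h2
  have h3 := h2.1
  simp [e0] at h3

/-- the root element -/
def t (F : Type*) [Field F] : SpecialLinearGroup (Fin 3) F := tv 0 2 (by decide) 1

theorem t_ne : t F ≠ 1 := by
  intro h
  have h2 := rho_tv (F := F) 0 2 (by decide) 1 (Pi.single 2 1)
  rw [show tv 0 2 (by decide) (1 : F) = t F from rfl, h, map_one, Module.End.one_apply] at h2
  have h3 := congrFun h2 0
  simp at h3

theorem ht (v : Fin 3 → F) : rho F (t F) v - v ∈ fl (N F) 1 := by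
  unfold t
  rw [rho_tv, add_sub_cancel_left, mem_fl1]
  exact ⟨Pi.single_eq_of_ne (by decide) _, Pi.single_eq_of_ne (by decide) _⟩

theorem htW (v : Fin 3 → F) (hv : v ∈ fl (N F) 2) : rho F (t F) v = v := by
  unfold t
  rw [rho_tv, (mem_fl2 v).1 hv, mul_zero, Pi.single_zero, add_zero]

/-- **the two parabolics generate** -/
theorem sup_top : stab (rho F) (fl (N F) 1) ⊔ stab (rho F) (fl (N F) 2) = ⊤ := by
  set P₁ := stab (rho F) (fl (N F) 1) with hP1
  set P₂ := stab (rho F) (fl (N F) 2) with hP2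
  have h10 : ∀ c : F, tv 1 0 (by decide) c ∈ P₁ ⊔ P₂ := fun c =>
    (le_sup_right : P₂ ≤ P₁ ⊔ P₂) (tv_mem2 1 0 (by decide) (by decide) c)
  have h21 : ∀ c : F, tv 2 1 (by decide) c ∈ P₁ ⊔ P₂ := fun c =>
    (le_sup_left : P₁ ≤ P₁ ⊔ P₂) (tv_mem1 2 1 (by decide) (by decide) c)
  have h20 : ∀ c : F, tv 2 0 (by decide) c ∈ P₁ ⊔ P₂ := by
    intro c
    have h2 : tv 2 0 (by decide) c = tv 2 1 (by decide) c * tv 1 0 (by decide) 1 * tv 2 1 (by decide) (-c) *
        tv 1 0 (by decide) (-1) := by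
      apply rho_injective
      apply LinearMap.ext
      intro v
      rw [rho_mul, rho_mul, rho_mul]
      simp only [rho_tv]
      ext i
      fin_cases i
      · simp
      · simp
      · simp
        ring
    rw [h2]
    exact mul_mem (mul_mem (mul_mem (h21 _) (h10 _)) (h21 _)) (h10 _)
  have htv : ∀ (i j : Fin 3) (hij : i ≠ j) (c : F), tv i j hij c ∈ P₁ ⊔ P₂ := by
    intro i j hij c
    by_cases hj : j = 0
    · subst hj
      fin_cases i
      · exact (hij rfl).elim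
      · exact h10 c
      · exact h20 c
    · exact (le_sup_left : P₁ ≤ P₁ ⊔ P₂) (tv_mem1 i j hij hj c)
  rw [eq_top_iff]
  intro A _
  have key : ∃ g ∈ P₁ ⊔ P₂, (g : Matrix (Fin 3) (Fin 3) F) = (A : Matrix (Fin 3) (Fin 3) F) := by
    refine Matrix.diagonal_transvection_induction
      (P := fun M : Matrix (Fin 3) (Fin 3) F => ∃ g ∈ P₁ ⊔ P₂, (g : Matrix (Fin 3) (Fin 3) F) = M)
      (A : Matrix (Fin 3) (Fin 3) F) ?_ ?_ ?_
    · intro D hD
      rw [A.2] at hD
      refine ⟨⟨Matrix.diagonal D, hD⟩, (le_sup_left : P₁ ≤ P₁ ⊔ P₂) ?_, rfl⟩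
      intro v hv
      show Matrix.mulVec (Matrix.diagonal D) v ∈ fl (N F) 1
      rw [mem_fl1] at hv ⊢
      rw [Matrix.mulVec_diagonal, Matrix.mulVec_diagonal, hv.1, hv.2, mul_zero, mul_zero]
      exact ⟨rfl, rfl⟩
    · rintro ⟨i, j, hij, c⟩
      exact ⟨tv i j hij c, htv i j hij c, rfl⟩
    · rintro _ _ ⟨g, hg, rfl⟩ ⟨h, hh, rfl⟩
      exact ⟨g * h, mul_mem hg hh, rfl⟩
  obtain ⟨g, hg, hgA⟩ := key
  rw [← Subtype.ext hgA]
  exact hg

/-- the projection -/
def pr (F : Type*) [Field F] : SpecialLinearGroup (Fin 3) F →* Matrix.ProjectiveSpecialLinearGroup (Fin 3) F :=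
  QuotientGroup.mk' (Subgroup.center (SpecialLinearGroup (Fin 3) F))

theorem pr_surjective : Function.Surjective (pr F) := QuotientGroup.mk'_surjective _

theorem mem_ker {z : SpecialLinearGroup (Fin 3) F} (hz : z ∈ (pr F).ker) : z ∈ Subgroup.center _ := by
  unfold pr at hz
  rwa [QuotientGroup.ker_mk'] at hz

theorem ker_comm : ∀ z ∈ (pr F).ker, ∀ g : SpecialLinearGroup (Fin 3) F, z * g = g * z := fun _ hz g =>
  (Subgroup.mem_center_iff.1 (mem_ker hz) g).symm

theorem ker_scalar {z : SpecialLinearGroup (Fin 3) F} (hz : z ∈ (pr F).ker) :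
    ∃ r : F, Matrix.scalar (Fin 3) r = (z : Matrix (Fin 3) (Fin 3) F) := by
  obtain ⟨r, -, hr⟩ := Matrix.SpecialLinearGroup.mem_center_iff.1 (mem_ker hz)
  exact ⟨r, hr⟩

theorem ker_two : ∀ z ∈ (pr F).ker, ∀ n : ℕ, z ^ 2 ^ n = 1 → z = 1 := by
  intro z hz n hzn
  obtain ⟨r, hr⟩ := ker_scalar hz
  have h2 : Matrix.scalar (Fin 3) (r ^ 2 ^ n) = 1 := by
    rw [map_pow, hr, ← Matrix.SpecialLinearGroup.coe_pow, hzn, Matrix.SpecialLinearGroup.coe_one]
  have h3 : r ^ 2 ^ n = 1 := by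
    have h4 := congrFun (congrFun h2 0) 0
    simpa using h4
  have h4 : r = 1 := by
    have h5 := sub_pow_char_pow (p := 2) (n := n) r 1
    rw [one_pow, h3, sub_self] at h5
    exact sub_eq_zero.1 (pow_eq_zero_iff (by positivity) |>.1 h5)
  apply Subtype.ext
  rw [← hr, h4, map_one]
  rfl

theorem ker_le (W : Submodule F (Fin 3 → F)) : (pr F).ker ≤ stab (rho F) W := by
  intro z hz v hv
  obtain ⟨r, hr⟩ := ker_scalar hz
  rw [rho_apply, ← hr]
  have h2 : Matrix.mulVec (Matrix.scalar (Fin 3) r) v = r • v := by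
    ext i
    simp [Matrix.scalar, Matrix.mulVec_diagonal]
  rw [h2]
  exact W.smul_mem r hv

theorem uel_mem : uel F ∈ urad (rho F) (N F) := by
  intro i v hv
  rw [← hu]
  exact mem_fl_succ.1 hv

theorem isPGroup_uel : IsPGroup 2 ↥(zpowers (uel F)) :=
  (isPGroup_urad (ρ := rho F) (N := N F) rho_injective hn).to_le
    ((zpowers_le (H := urad (rho F) (N F))).2 uel_mem)

theorem two (S : Sylow 2 (SpecialLinearGroup (Fin 3) F))
    (hS : uel F ∈ (S : Subgroup (SpecialLinearGroup (Fin 3) F))) :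
    RTwo (S : Subgroup (SpecialLinearGroup (Fin 3) F)) (stab (rho F) (fl (N F) 1)) (stab (rho F) (fl (N F) 2)) :=
  two3 (ρ := rho F) (u := uel F) (N := N F) rho_injective hu h1 S hS hn fr n12 n21 t_ne ht htW

theorem comm (S : Sylow 2 (SpecialLinearGroup (Fin 3) F))
    (hS : uel F ∈ (S : Subgroup (SpecialLinearGroup (Fin 3) F))) :
    ∀ x ∈ O2 (stab (rho F) (fl (N F) 1)), x ∈ O2 (stab (rho F) (fl (N F) 2)) →
      ∀ s ∈ (S : Subgroup (SpecialLinearGroup (Fin 3) F)), x * s = s * x := fun _ hx1 hx2 _ hs =>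
  comm_of_inf (ρ := rho F) (u := uel F) (N := N F) rho_injective hu h1 hn fr S hS n12 n21 hx1 hx2 hs

/-- **LL3** -/
theorem false_of_fib {K : Type u} [Group K] (hr : Rig K) (e : K ≃* Matrix.ProjectiveSpecialLinearGroup (Fin 3) F)
    {S₁ : Sylow 2 K} {P V : Subgroup (MulAut K)} (hF : Fib S₁ P V) : False := by
  obtain ⟨S, hS⟩ := (isPGroup_uel (F := F)).exists_le_sylow
  have hSu : uel F ∈ (S : Subgroup (SpecialLinearGroup (Fin 3) F)) := hS (mem_zpowers _)
  have : Finite (Matrix.ProjectiveSpecialLinearGroup (Fin 3) F) := Finite.of_surjective _ (pr_surjective (F := F))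
  have : Finite K := Finite.of_equiv _ e.symm.toEquiv
  obtain ⟨e', he'⟩ := exists_equiv' e S₁ (S.mapSurjective (f := pr F) pr_surjective)
  have he2 : (S₁ : Subgroup K).map e'.toMonoidHom = (S : Subgroup (SpecialLinearGroup (Fin 3) F)).map (pr F) := he'
  have hR := two S hSu
  have hR2 := hR.quot pr_surjective ker_comm ker_two S (ker_le _) (ker_le _)
  have hc2 := inf_quot pr_surjective ker_comm ker_two S hR (ker_le _) (ker_le _) (comm S hSu)
  have hR3 := hR2.map e'.symm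
  rw [← he2, map_symm_map] at hR3
  refine kill_of_inf hF hr hR3 ?_ ?_
  · rw [← Subgroup.map_sup, ← Subgroup.map_sup, sup_top, Subgroup.map_top_of_surjective _ pr_surjective,
      Subgroup.map_top_of_surjective _ e'.symm.surjective]
  · intro x hx1 hx2 s hs
    rw [O2_map] at hx1 hx2
    obtain ⟨a, ha, rfl⟩ := hx1
    obtain ⟨b, hb, hab⟩ := hx2
    have h3 : b = a := e'.symm.injective hab
    rw [h3] at hb
    have h4 : e' s ∈ (S : Subgroup (SpecialLinearGroup (Fin 3) F)).map (pr F) := by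
      rw [← he2]
      exact ⟨s, hs, rfl⟩
    have h5 := congrArg e'.symm (hc2 a ha hb _ h4)
    rwa [map_mul, map_mul, MulEquiv.symm_apply_apply] at h5

end Cfsg.Agent.H96.Tall.L3

namespace Cfsg.Agent.H96.Tall

open Subgroup Cfsg Cfsg.Agent.H226.Tall

universe u

/-- **LL3**: `PSL_3(2^k)` is not a component. -/
theorem no2_psl3 : No2.{u} (fun K _ => Rig K ∧ ∃ (F : Type) (_ : Field F) (_ : Fintype F) (k : ℕ),
    Fintype.card F = 2 ^ k ∧ Nonempty (K ≃* Matrix.ProjectiveSpecialLinearGroup (Fin 3) F)) := by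
  rintro K _ _ _ S₁ P V hF ⟨hr, F, _, _, k, hF', ⟨e⟩⟩
  have : CharP F 2 := by
    obtain ⟨p, hp⟩ := CharP.exists F
    have hpp : p.Prime := (CharP.char_is_prime_or_zero F p).resolve_right (CharP.char_ne_zero_of_finite F p)
    have : Fact p.Prime := ⟨hpp⟩
    obtain ⟨n, -, hn'⟩ := FiniteField.card F p
    rw [hF'] at hn'
    have h2 : p ∣ 2 ^ k := by rw [hn']; exact dvd_pow_self p n.ne_zero
    have h3 := (Nat.prime_dvd_prime_iff_eq hpp Nat.prime_two).1 (hpp.dvd_of_dvd_pow h2)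
    rwa [← h3]
  exact L3.false_of_fib hr e hF

end Cfsg.Agent.H96.Tall
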