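import Cfsg.Agent.H96.Tall.Engine

/-!
# S2927: the flag of a regular unipotent element (helper96)

`ρ : G →* End V` faithful, `V` over a finite field of characteristic 2, `u : G`, `N = ρ u - 1` nilpotent with
`dim ker N ≤ 1`, `S ∋ u` a Sylow 2-subgroup of `G`.

* `eq_fl` : the `N`-invariant subspaces are the `fl N i = ker N ^ i`;
* `flag` : a 2-group containing `u` acts trivially on `fl N (i + 1) / fl N i`;
* `mem_normalizer` : the stabiliser of the flag normalises `S`; `norm_le` : the converse;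
* `bt` : `S ≤ M`, `O₂(M) ≠ 1` : `M` fixes some `fl N i`, `0 < i < dim V`;
* `O2_stab_ne` : `O₂(stab W) ≠ 1`;
* `comm_of_inf` : (`dim V = 3`) `O₂(stab (fl N 1)) ∩ O₂(stab (fl N 2))` is centralised by `S`.
-/

set_option autoImplicit false
set_option linter.unusedSectionVars false

namespace Cfsg.Agent.H96.Tall.Lin

open Subgroup Cfsg Cfsg.Agent.H226.Tall Cfsg.Agent.H96.Tall Module

section Nil

variable {F V : Type*} [Field F] [AddCommGroup V] [Module F V] [FiniteDimensional F V]

/-- the flag of a nilpotent endomorphism -/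
def fl (N : Module.End F V) (i : ℕ) : Submodule F V := LinearMap.ker (N ^ i)

theorem mem_fl {N : Module.End F V} {i : ℕ} {v : V} : v ∈ fl N i ↔ (N ^ i) v = 0 := LinearMap.mem_ker

theorem fl_zero (N : Module.End F V) : fl N 0 = ⊥ := by
  unfold fl
  rw [pow_zero]
  exact LinearMap.ker_id

theorem mem_fl_succ {N : Module.End F V} {i : ℕ} {v : V} : v ∈ fl N (i + 1) ↔ N v ∈ fl N i := by
  rw [mem_fl, mem_fl, pow_succ, Module.End.mul_apply]

theorem apply_mem_fl {N : Module.End F V} {i : ℕ} {v : V} (h : v ∈ fl N i) : N v ∈ fl N i := by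
  rw [mem_fl] at h ⊢
  rw [← Module.End.mul_apply, ← pow_succ, pow_succ', Module.End.mul_apply, h, map_zero]

theorem fl_le_succ (N : Module.End F V) (i : ℕ) : fl N i ≤ fl N (i + 1) := fun _ hv =>
  mem_fl_succ.2 (apply_mem_fl hv)

theorem fl_mono (N : Module.End F V) {i j : ℕ} (h : i ≤ j) : fl N i ≤ fl N j := by
  induction h with
  | refl => exact le_rfl
  | step _ ih => exact ih.trans (fl_le_succ N _)

theorem finrank_succ_le {N : Module.End F V} (h1 : finrank F (LinearMap.ker N) ≤ 1) (i : ℕ) :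
    finrank F (fl N (i + 1)) ≤ finrank F (fl N i) + 1 := by
  let f : fl N (i + 1) →ₗ[F] V := N.domRestrict (fl N (i + 1))
  have h2 := f.finrank_range_add_finrank_ker
  have h3 : LinearMap.range f ≤ fl N i := by
    rintro _ ⟨w, rfl⟩
    exact mem_fl_succ.1 w.2
  have h4 := Submodule.finrank_mono h3
  have h5 : finrank F (LinearMap.ker f) ≤ finrank F (LinearMap.ker N) := by
    refine LinearMap.finrank_le_finrank_of_injective
      (f := ((fl N (i + 1)).subtype.domRestrict (LinearMap.ker f)).codRestrict (LinearMap.ker N) ?_) ?_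
    · intro w
      have h6 := w.2
      rw [LinearMap.mem_ker] at h6 ⊢
      exact h6
    · intro a b hab
      have h7 : ((a : fl N (i + 1)) : V) = ((b : fl N (i + 1)) : V) := by
        have h8 := congrArg (fun z : LinearMap.ker N => (z : V)) hab
        exact h8
      exact Subtype.ext (Subtype.ext h7)
  omega

theorem finrank_le {N : Module.End F V} (h1 : finrank F (LinearMap.ker N) ≤ 1) (i : ℕ) :
    finrank F (fl N i) ≤ i := by
  induction i with
  | zero => rw [fl_zero, finrank_bot]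
  | succ i ih => exact (finrank_succ_le h1 i).trans (by omega)

/-- **The invariant subspaces.** -/
theorem eq_fl {N : Module.End F V} (h1 : finrank F (LinearMap.ker N) ≤ 1) {n : ℕ} (hn : N ^ n = 0)
    {W : Submodule F V} (hW : ∀ w ∈ W, N w ∈ W) : W = fl N (finrank F W) := by
  have h2 : W ≤ fl N (finrank F W) := by
    let f : Module.End F W := N.restrict hW
    have h3 : ∀ (i : ℕ) (w : W), (((f ^ i) w : W) : V) = (N ^ i) w := by
      intro i
      induction i with
      | zero => intro w; rfl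
      | succ i ih =>
        intro w
        rw [pow_succ, pow_succ, Module.End.mul_apply, Module.End.mul_apply, ih]
        rfl
    have h4 : LinearMap.ker (f ^ n) = ⊤ := by
      rw [eq_top_iff]
      intro w _
      rw [LinearMap.mem_ker]
      apply Subtype.ext
      rw [h3, hn]
      rfl
    have h5 := Module.End.ker_pow_le_ker_pow_finrank f n
    rw [h4, top_le_iff] at h5
    intro w hw
    rw [mem_fl]
    have h6 : (⟨w, hw⟩ : W) ∈ LinearMap.ker (f ^ finrank F W) := by rw [h5]; trivial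
    rw [LinearMap.mem_ker] at h6
    rw [← h3 _ ⟨w, hw⟩, h6]
    rfl
  exact Submodule.eq_of_le_of_finrank_le h2 (finrank_le h1 _)

end Nil

section Rep

variable {F V G : Type*} [Field F] [CharP F 2] [AddCommGroup V] [Module F V] [Finite V] [Group G] [Finite G]
  (ρ : G →* Module.End F V)

theorem rho_inv_apply (g : G) (v : V) : ρ g⁻¹ (ρ g v) = v := by
  rw [← Module.End.mul_apply, ← map_mul, inv_mul_cancel, map_one]
  rfl

theorem rho_apply_inv (g : G) (v : V) : ρ g (ρ g⁻¹ v) = v := by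
  rw [← Module.End.mul_apply, ← map_mul, mul_inv_cancel, map_one]
  rfl

theorem rho_mul (g h : G) (v : V) : ρ (g * h) v = ρ g (ρ h v) := by
  rw [map_mul]; rfl

theorem rho_one (v : V) : ρ 1 v = v := by
  rw [map_one]; rfl

/-- the stabiliser of a subspace -/
def stab (W : Submodule F V) : Subgroup G where
  carrier := {g | ∀ v ∈ W, ρ g v ∈ W}
  one_mem' := fun v hv => by rwa [rho_one]
  mul_mem' := fun {a b} ha hb v hv => by
    rw [rho_mul]
    exact ha _ (hb v hv)
  inv_mem' := by
    intro g hg v hv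
    have hinj : Function.Injective (fun w : W => (⟨ρ g w, hg w w.2⟩ : W)) := by
      intro a b hab
      have h1 : ρ g a = ρ g b := congrArg Subtype.val hab
      have h2 := congrArg (ρ g⁻¹) h1
      rw [rho_inv_apply, rho_inv_apply] at h2
      exact Subtype.ext h2
    obtain ⟨w, hw⟩ := Finite.surjective_of_injective hinj ⟨v, hv⟩
    have h1 : ρ g w = v := congrArg Subtype.val hw
    rw [← h1, rho_inv_apply]
    exact w.2

theorem mem_stab {W : Submodule F V} {g : G} : g ∈ stab ρ W ↔ ∀ v ∈ W, ρ g v ∈ W := Iff.rfl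

/-- the vectors fixed by `S` modulo `W` -/
def fixm (S : Subgroup G) (W : Submodule F V) : Submodule F V where
  carrier := {v | ∀ s ∈ S, ρ s v - v ∈ W}
  add_mem' := fun {a b} ha hb s hs => by
    rw [map_add]
    have h1 : ρ s a + ρ s b - (a + b) = (ρ s a - a) + (ρ s b - b) := by abel
    rw [h1]
    exact W.add_mem (ha s hs) (hb s hs)
  zero_mem' := fun s _ => by
    rw [map_zero, sub_zero]
    exact W.zero_mem
  smul_mem' := fun c v hv s hs => by
    rw [map_smul, ← smul_sub]
    exact W.smul_mem c (hv s hs)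

theorem mem_fixm {S : Subgroup G} {W : Submodule F V} {v : V} : v ∈ fixm ρ S W ↔ ∀ s ∈ S, ρ s v - v ∈ W := Iff.rfl

/-- a 2-group has fixed points on `V / W` -/
theorem exists_fixm {S : Subgroup G} (hS : IsPGroup 2 ↥S) {W : Submodule F V} (hW : ∀ s ∈ S, ∀ v ∈ W, ρ s v ∈ W)
    (hne : W ≠ ⊤) : ∃ v, v ∉ W ∧ v ∈ fixm ρ S W := by
  classical
  have : Finite (V ⧸ W) := Quotient.finite _
  let act : MulAction S (V ⧸ W) :=
    { smul := fun s q => W.mapQ W (ρ s) (fun v hv => hW s s.2 v hv) q
      one_smul := by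
        intro q
        induction q using Submodule.Quotient.induction_on with
        | H v =>
          show W.mapQ W (ρ ((1 : S) : G)) _ (Submodule.Quotient.mk v) = _
          rw [Submodule.mapQ_apply, Subgroup.coe_one, rho_one]
      mul_smul := by
        intro a b q
        induction q using Submodule.Quotient.induction_on with
        | H v =>
          show W.mapQ W (ρ ((a * b : S) : G)) _ (Submodule.Quotient.mk v) =
            W.mapQ W (ρ (a : G)) _ (W.mapQ W (ρ (b : G)) _ (Submodule.Quotient.mk v))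
          rw [Submodule.mapQ_apply, Submodule.mapQ_apply, Submodule.mapQ_apply, Subgroup.coe_mul, rho_mul] }
  have hsm : ∀ (s : S) (v : V), s • (Submodule.Quotient.mk v : V ⧸ W) = Submodule.Quotient.mk (ρ s v) := fun s v => rfl
  have hdvd : 2 ∣ Nat.card (V ⧸ W) := by
    obtain ⟨v, hv⟩ : ∃ v, v ∉ W := by
      by_contra h
      push Not at h
      exact hne (eq_top_iff.2 fun v _ => h v)
    have h1 : addOrderOf (Submodule.Quotient.mk v : V ⧸ W) = 2 := by
      apply addOrderOf_eq_prime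
      · rw [two_nsmul, ← Submodule.Quotient.mk_add]
        have h2 : v + v = 0 := by
          have h3 : ((1 : F) + 1) • v = 0 := by rw [CharTwo.add_self_eq_zero, zero_smul]
          rwa [add_smul, one_smul] at h3
        rw [h2, Submodule.Quotient.mk_zero]
      · intro h2
        exact hv ((Submodule.Quotient.mk_eq_zero W).1 h2)
    rw [← h1]
    exact addOrderOf_dvd_natCard _
  obtain ⟨q, hq, hq0⟩ := IsPGroup.exists_fixed_point_of_prime_dvd_card_of_fixed_point (G := S) (α := V ⧸ W) hS hdvd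
    (a := 0) (by
      intro s
      have h1 := hsm s 0
      rw [map_zero, Submodule.Quotient.mk_zero] at h1
      exact h1)
  induction q using Submodule.Quotient.induction_on with
  | H v =>
    refine ⟨v, fun hv => hq0 ((Submodule.Quotient.mk_eq_zero W).2 hv).symm, ?_⟩
    intro s hs
    have h1 := hq ⟨s, hs⟩
    rw [hsm] at h1
    exact (Submodule.Quotient.eq W).1 h1

variable {ρ}

/-- **A 2-group containing the regular unipotent element `u` fixes the flag.** -/
theorem flag {u : G} {N : Module.End F V} (hu : ∀ v, N v = ρ u v - v) (h1 : finrank F (LinearMap.ker N) ≤ 1)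
    {S : Subgroup G} (hS : IsPGroup 2 ↥S) (huS : u ∈ S) (i : ℕ) :
    (∀ s ∈ S, ∀ v ∈ fl N i, ρ s v ∈ fl N i) ∧ ∀ s ∈ S, ∀ v ∈ fl N (i + 1), ρ s v - v ∈ fl N i := by
  have : FiniteDimensional F V := Module.Finite.of_finite
  -- the step
  have step : ∀ i, (∀ s ∈ S, ∀ v ∈ fl N i, ρ s v ∈ fl N i) → ∀ s ∈ S, ∀ v ∈ fl N (i + 1), ρ s v - v ∈ fl N i := by
    intro i hi
    by_cases htop : fl N i = ⊤
    · intro s _ v _
      rw [htop]
      trivial
    obtain ⟨w, hw1, hw2⟩ := exists_fixm ρ hS hi htop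
    have hle : fl N i ≤ fixm ρ S (fl N i) := fun v hv s hs => (fl N i).sub_mem (hi s hs v hv) hv
    have hlt : fl N i < fixm ρ S (fl N i) := lt_of_le_of_ne hle (fun h => hw1 (h ▸ hw2))
    have hle2 : fixm ρ S (fl N i) ≤ fl N (i + 1) := by
      intro v hv
      rw [mem_fl_succ, hu]
      exact hv u huS
    have h2 := Submodule.finrank_lt_finrank_of_lt hlt
    have h3 := finrank_succ_le h1 i
    have h4 := Submodule.eq_of_le_of_finrank_le hle2 (by omega)
    intro s hs v hv
    rw [← h4] at hv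
    exact hv s hs
  have inv : ∀ i, ∀ s ∈ S, ∀ v ∈ fl N i, ρ s v ∈ fl N i := by
    intro i
    induction i with
    | zero =>
      intro s _ v hv
      rw [fl_zero, Submodule.mem_bot] at hv ⊢
      rw [hv, map_zero]
    | succ i ih =>
      intro s hs v hv
      have h2 := step i ih s hs v hv
      have h3 : ρ s v = (ρ s v - v) + v := by abel
      rw [h3]
      exact (fl N (i + 1)).add_mem (fl_le_succ N i h2) hv
  exact ⟨inv i, step i (inv i)⟩

/-- the unipotent radical of the flag -/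
def urad (ρ : G →* Module.End F V) (N : Module.End F V) : Subgroup G where
  carrier := {g | ∀ i, ∀ v ∈ fl N (i + 1), ρ g v - v ∈ fl N i}
  one_mem' := fun i v _ => by
    rw [rho_one, sub_self]
    exact (fl N i).zero_mem
  mul_mem' := by
    intro a b ha hb i v hv
    have h1 := hb i v hv
    have h2 : ρ b v ∈ fl N (i + 1) := by
      have h3 : ρ b v = (ρ b v - v) + v := by abel
      rw [h3]
      exact (fl N (i + 1)).add_mem (fl_le_succ N i h1) hv
    have h4 := ha i _ h2
    have h5 : ρ (a * b) v - v = (ρ a (ρ b v) - ρ b v) + (ρ b v - v) := by rw [rho_mul]; abel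
    rw [h5]
    exact (fl N i).add_mem h4 h1
  inv_mem' := by
    intro g hg i v hv
    have hst : ∀ j, g ∈ stab ρ (fl N j) := by
      intro j
      rcases Nat.eq_zero_or_pos j with rfl | hj
      · intro v hv
        rw [fl_zero, Submodule.mem_bot] at hv ⊢
        rw [hv, map_zero]
      · obtain ⟨k, rfl⟩ := Nat.exists_eq_succ_of_ne_zero hj.ne'
        intro v hv
        have h3 : ρ g v = (ρ g v - v) + v := by abel
        rw [h3]
        exact (fl N (k + 1)).add_mem (fl_le_succ N k (hg k v hv)) hv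
    have h1 : ρ g⁻¹ v ∈ fl N (i + 1) := (stab ρ (fl N (i + 1))).inv_mem (hst _) v hv
    have h2 := (fl N i).neg_mem (hg i _ h1)
    rwa [rho_apply_inv, neg_sub] at h2

theorem mem_urad {N : Module.End F V} {g : G} : g ∈ urad ρ N ↔ ∀ i, ∀ v ∈ fl N (i + 1), ρ g v - v ∈ fl N i := Iff.rfl

theorem isPGroup_urad [Nontrivial V] (hρ : Function.Injective ρ) {N : Module.End F V} {n : ℕ} (hn : N ^ n = 0) :
    IsPGroup 2 ↥(urad ρ N) := by
  have hch : CharP (Module.End F V) 2 := charP_of_injective_algebraMap (algebraMap F (Module.End F V)).injective 2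
  have : Fact (Nat.Prime 2) := ⟨Nat.prime_two⟩
  intro g
  refine ⟨n, ?_⟩
  apply Subtype.ext
  apply hρ
  rw [Subgroup.coe_pow, Subgroup.coe_one, map_pow, map_one]
  have h1 : ∀ (j : ℕ) (v : V), v ∈ fl N j → ((ρ (g : G) - 1) ^ j) v = 0 := by
    intro j
    induction j with
    | zero =>
      intro v hv
      rw [fl_zero, Submodule.mem_bot] at hv
      rw [hv, map_zero]
    | succ j ih =>
      intro v hv
      rw [pow_succ, Module.End.mul_apply]
      exact ih _ (g.2 j v hv)
  have h2 : (ρ (g : G) - 1) ^ n = 0 := by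
    ext v
    rw [LinearMap.zero_apply]
    apply h1
    rw [mem_fl, hn]
    rfl
  have h3 : (ρ (g : G) - 1) ^ 2 ^ n = 0 := by
    obtain ⟨k, hk⟩ : ∃ k, 2 ^ n = n + k := ⟨2 ^ n - n, by have := (Nat.lt_two_pow_self (n := n)).le; omega⟩
    rw [hk, pow_add, h2, zero_mul]
  rw [sub_pow_char_pow_of_commute _ _ (Commute.one_right _), one_pow, sub_eq_zero] at h3
  exact h3

section Sylow

variable [Nontrivial V] (hρ : Function.Injective ρ) {u : G} {N : Module.End F V} (hu : ∀ v, N v = ρ u v - v)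
  (h1 : finrank F (LinearMap.ker N) ≤ 1) {n : ℕ} (hn : N ^ n = 0) (S : Sylow 2 G) (huS : u ∈ (S : Subgroup G))

include hρ hu h1 hn huS

theorem urad_eq : urad ρ N = (S : Subgroup G) :=
  S.is_maximal' (isPGroup_urad hρ hn) (fun s hs i => (flag hu h1 S.isPGroup' huS i).2 s hs)

/-- **The stabiliser of the flag normalises `S`.** -/
theorem mem_normalizer {g : G} (hg : ∀ i, g ∈ stab ρ (fl N i)) : g ∈ normalizer ((S : Subgroup G) : Set G) := by
  have hS := urad_eq hρ hu h1 hn S huS
  have key : ∀ {g : G}, (∀ i, g ∈ stab ρ (fl N i)) → ∀ s ∈ (S : Subgroup G), g * s * g⁻¹ ∈ (S : Subgroup G) := by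
    intro g hg s hs
    rw [← hS] at hs ⊢
    intro i v hv
    have h2 := (stab ρ (fl N (i + 1))).inv_mem (hg _) v hv
    have h3 := hg i _ (hs i _ h2)
    rw [map_sub, rho_apply_inv] at h3
    rwa [rho_mul, rho_mul]
  rw [mem_normalizer_iff]
  intro x
  constructor
  · exact key hg x
  · intro hx
    have h2 := key (fun i => (stab ρ (fl N i)).inv_mem (hg i)) _ hx
    have h3 : g⁻¹ * (g * x * g⁻¹) * g⁻¹⁻¹ = x := by group
    rwa [h3] at h2

/-- the normaliser of `S` stabilises the flag -/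
theorem norm_le (i : ℕ) : normalizer ((S : Subgroup G) : Set G) ≤ stab ρ (fl N i) := by
  have : FiniteDimensional F V := Module.Finite.of_finite
  intro g hg
  have hinj : Function.Injective (ρ g) := by
    intro a b hab
    have h2 := congrArg (ρ g⁻¹) hab
    rwa [rho_inv_apply, rho_inv_apply] at h2
  set W : Submodule F V := (fl N i).map (ρ g) with hW
  have hfr : finrank F W = finrank F (fl N i) := ((fl N i).equivMapOfInjective (ρ g) hinj).finrank_eq.symm
  have hWN : ∀ w ∈ W, N w ∈ W := by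
    rintro _ ⟨v, hv, rfl⟩
    rw [hu]
    refine W.sub_mem ?_ ⟨v, hv, rfl⟩
    have h2 : g⁻¹ * u * g ∈ (S : Subgroup G) := by
      have h3 := (mem_normalizer_iff.1 (inv_mem hg) u).1 huS
      rwa [inv_inv] at h3
    refine ⟨ρ (g⁻¹ * u * g) v, (flag hu h1 S.isPGroup' huS i).1 _ h2 v hv, ?_⟩
    rw [rho_mul, rho_mul, rho_apply_inv]
  have h2 := eq_fl h1 hn hWN
  have h3 := eq_fl h1 hn (W := fl N i) (fun w hw => apply_mem_fl hw)
  rw [hfr, ← h3] at h2
  intro v hv
  rw [← h2]
  exact ⟨v, hv, rfl⟩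

/-- **Borel-Tits** -/
theorem bt {M : Subgroup G} (hM : (S : Subgroup G) ≤ M) (hO : O2 M ≠ ⊥) :
    ∃ i, 0 < i ∧ i < finrank F V ∧ M ≤ stab ρ (fl N i) := by
  have : FiniteDimensional F V := Module.Finite.of_finite
  set W : Submodule F V := fixm ρ (O2 M) ⊥ with hW
  have hWM : ∀ g ∈ M, ∀ v ∈ W, ρ g v ∈ W := by
    intro g hg v hv d hd
    have h2 : g⁻¹ * d * g ∈ O2 M := by
      have h3 := O2_conj_mem (inv_mem hg) hd
      rwa [inv_inv] at h3
    have h3 := hv _ h2
    rw [Submodule.mem_bot, sub_eq_zero] at h3 ⊢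
    have h4 : ρ (g⁻¹ * d * g) v = ρ g⁻¹ (ρ d (ρ g v)) := by rw [rho_mul, rho_mul]
    rw [h4] at h3
    have h5 := congrArg (ρ g) h3
    rwa [rho_apply_inv] at h5
  have hne : W ≠ ⊤ := by
    intro h2
    apply hO
    rw [eq_bot_iff]
    intro d hd
    rw [Subgroup.mem_bot]
    apply hρ
    rw [map_one]
    ext v
    have h3 : v ∈ W := by rw [h2]; trivial
    have h4 := h3 d hd
    rw [Submodule.mem_bot, sub_eq_zero] at h4
    exact h4
  have hne0 : W ≠ ⊥ := by
    obtain ⟨v, hv1, hv2⟩ := exists_fixm ρ (O2_isPGroup M) (W := ⊥) (fun s _ v hv => by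
      rw [Submodule.mem_bot] at hv ⊢
      rw [hv, map_zero]) bot_ne_top
    intro h2
    rw [← hW, h2] at hv2
    exact hv1 hv2
  have huM : u ∈ M := hM huS
  have h2 := eq_fl h1 hn (W := W) (fun w hw => by
    rw [hu]
    exact W.sub_mem (hWM u huM w hw) hw)
  refine ⟨finrank F W, ?_, ?_, ?_⟩
  · rcases Nat.eq_zero_or_pos (finrank F W) with h3 | h3
    · exact (hne0 (Submodule.finrank_eq_zero.1 h3)).elim
    · exact h3
  · exact Submodule.finrank_lt hne
  · intro g hg
    rw [← h2]
    exact hWM g hg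

end Sylow

/-- `O₂` of the stabiliser of a subspace -/
theorem O2_stab_ne (hρ : Function.Injective ρ) {W : Submodule F V} {t : G} (ht1 : t ≠ 1)
    (ht : ∀ v, ρ t v - v ∈ W) (htW : ∀ v ∈ W, ρ t v = v) : O2 (stab ρ W) ≠ ⊥ := by
  let R : Subgroup G :=
    { carrier := {g | (∀ v, ρ g v - v ∈ W) ∧ ∀ v ∈ W, ρ g v = v}
      one_mem' := ⟨fun v => by rw [rho_one, sub_self]; exact W.zero_mem, fun v _ => rho_one ρ v⟩
      mul_mem' := by
        rintro a b ⟨ha1, ha2⟩ ⟨hb1, hb2⟩
        refine ⟨fun v => ?_, fun v hv => ?_⟩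
        · have h2 : ρ (a * b) v - v = (ρ a (ρ b v) - ρ b v) + (ρ b v - v) := by rw [rho_mul]; abel
          rw [h2]
          exact W.add_mem (ha1 _) (hb1 _)
        · rw [rho_mul, hb2 v hv, ha2 v hv]
      inv_mem' := by
        rintro g ⟨hg1, hg2⟩
        refine ⟨fun v => ?_, fun v hv => ?_⟩
        · have h2 := W.neg_mem (hg1 (ρ g⁻¹ v))
          rwa [rho_apply_inv, neg_sub] at h2
        · have h2 := congrArg (ρ g⁻¹) (hg2 v hv)
          rw [rho_inv_apply] at h2
          exact h2.symm }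
  have hR : ∀ g, g ∈ R ↔ (∀ v, ρ g v - v ∈ W) ∧ ∀ v ∈ W, ρ g v = v := fun g => Iff.rfl
  have hRs : R ≤ stab ρ W := by
    intro g hg v hv
    rw [hg.2 v hv]
    exact hv
  have hR2 : IsPGroup 2 ↥R := by
    intro g
    refine ⟨1, ?_⟩
    apply Subtype.ext
    apply hρ
    rw [Subgroup.coe_pow, pow_one, pow_two, Subgroup.coe_one, map_mul, map_one]
    ext v
    rw [Module.End.mul_apply, Module.End.one_apply]
    have h2 := g.2.2 _ (g.2.1 v)
    rw [map_sub] at h2
    -- ρ g (ρ g v) - ρ g v = ρ g v - v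
    have h3 : ρ (g : G) (ρ (g : G) v) = (ρ (g : G) v - v) + ρ (g : G) v := by
      rw [← h2]; abel
    rw [h3]
    have h4 : ρ (g : G) v + ρ (g : G) v = 0 := by
      have h5 : ((1 : F) + 1) • (ρ (g : G) v) = 0 := by rw [CharTwo.add_self_eq_zero, zero_smul]
      rwa [add_smul, one_smul] at h5
    have h5 : v + v = 0 := by
      have h5 : ((1 : F) + 1) • v = 0 := by rw [CharTwo.add_self_eq_zero, zero_smul]
      rwa [add_smul, one_smul] at h5
    calc ρ (g : G) v - v + ρ (g : G) v = (ρ (g : G) v + ρ (g : G) v) - (v + v) + v := by abel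
      _ = v := by rw [h4, h5]; abel
  have h2 : R ≤ O2 (stab ρ W) := by
    refine le_O2 hRs ?_ hR2
    intro g hg r hr
    have hg' := (stab ρ W).inv_mem hg
    refine ⟨fun v => ?_, fun v hv => ?_⟩
    · have h3 := hg _ (hr.1 (ρ g⁻¹ v))
      rw [map_sub, rho_apply_inv] at h3
      rwa [rho_mul, rho_mul]
    · rw [rho_mul, rho_mul, hr.2 _ (hg' v hv), rho_apply_inv]
  intro h3
  rw [h3, le_bot_iff] at h2
  have h4 : t ∈ R := ⟨ht, htW⟩
  rw [h2, Subgroup.mem_bot] at h4
  exact ht1 h4

/-- **`dim V = 3`** : `O₂(P₁) ∩ O₂(P₂)` is centralised by `S`. -/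
theorem comm_of_inf [Nontrivial V] (hρ : Function.Injective ρ) {u : G} {N : Module.End F V}
    (hu : ∀ v, N v = ρ u v - v) (h1 : finrank F (LinearMap.ker N) ≤ 1) (hn : N ^ 3 = 0) (hV : finrank F V = 3)
    (S : Sylow 2 G) (huS : u ∈ (S : Subgroup G)) (n12 : ¬ stab ρ (fl N 1) ≤ stab ρ (fl N 2))
    (n21 : ¬ stab ρ (fl N 2) ≤ stab ρ (fl N 1)) {x : G} (hx1 : x ∈ O2 (stab ρ (fl N 1)))
    (hx2 : x ∈ O2 (stab ρ (fl N 2))) {s : G} (hs : s ∈ (S : Subgroup G)) : x * s = s * x := by
  have : FiniteDimensional F V := Module.Finite.of_finite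
  have huP : ∀ i, u ∈ stab ρ (fl N i) := fun i => (flag hu h1 S.isPGroup' huS i).1 u huS
  have hfl3 : fl N 3 = ⊤ := by
    rw [eq_top_iff]
    intro v _
    rw [mem_fl, hn]
    rfl
  -- an invariant subspace
  have key : ∀ (P : Subgroup G) (W U : Submodule F V), (∀ g ∈ P, ∀ v ∈ U, ρ g v ∈ U) → u ∈ P →
      (∀ g ∈ P, ∀ v ∈ fixm ρ (O2 P) U, ρ g v ∈ fixm ρ (O2 P) U) := by
    intro P W U hU _ g hg v hv d hd
    have h2 : g⁻¹ * d * g ∈ O2 P := by
      have h3 := O2_conj_mem (inv_mem hg) hd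
      rwa [inv_inv] at h3
    have h3 := hU g hg _ (hv _ h2)
    have h4 : ρ g (ρ (g⁻¹ * d * g) v - v) = ρ d (ρ g v) - ρ g v := by
      rw [map_sub, rho_mul, rho_mul, rho_apply_inv]
    rwa [h4] at h3
  -- the action on `V / V₁`
  have hA : ∀ v, ρ x v - v ∈ fl N 1 := by
    set W := fixm ρ (O2 (stab ρ (fl N 1))) (fl N 1) with hW
    have hWi := key (stab ρ (fl N 1)) ⊥ (fl N 1) (fun g hg => hg) (huP 1)
    have h2 := eq_fl h1 hn (W := W) (fun w hw => by
      rw [hu]
      exact W.sub_mem (hWi u (huP 1) w hw) hw)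
    have hle : fl N 1 ≤ W := fun v hv d hd => (fl N 1).sub_mem (O2_le _ hd v hv) hv
    have hne1 : fl N 1 ≠ ⊤ := by
      intro h3
      have h4 := finrank_le h1 1
      rw [h3, finrank_top, hV] at h4
      omega
    obtain ⟨v, hv1, hv2⟩ := exists_fixm ρ (O2_isPGroup (stab ρ (fl N 1))) (W := fl N 1)
      (fun s hs' v hv => O2_le _ hs' v hv) hne1
    have hlt : fl N 1 < W := lt_of_le_of_ne hle (fun h3 => hv1 (h3 ▸ hv2))
    have hpos : 1 < finrank F W := by
      by_contra h3
      have h4 : W ≤ fl N 1 := by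
        rw [h2]
        exact fl_mono N (by omega)
      exact absurd hlt (not_lt_of_ge h4)
    have hne2 : finrank F W ≠ 2 := by
      intro h3
      rw [h3] at h2
      apply n12
      intro g hg v hv
      rw [← h2] at hv ⊢
      exact hWi g hg v hv
    have h3 : W = ⊤ := by
      rw [eq_top_iff, ← hfl3, h2]
      exact fl_mono N (by omega)
    intro v
    have h4 : v ∈ W := by rw [h3]; trivial
    exact h4 x hx1
  have hB : ∀ v ∈ fl N 2, ρ x v = v := by
    set W := fixm ρ (O2 (stab ρ (fl N 2))) (⊥ : Submodule F V) with hW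
    have hWi := key (stab ρ (fl N 2)) ⊥ ⊥ (fun g _ v hv => by
      rw [Submodule.mem_bot] at hv ⊢
      rw [hv, map_zero]) (huP 2)
    have h2 := eq_fl h1 hn (W := W) (fun w hw => by
      rw [hu]
      exact W.sub_mem (hWi u (huP 2) w hw) hw)
    obtain ⟨v, hv1, hv2⟩ := exists_fixm ρ (O2_isPGroup (stab ρ (fl N 2))) (W := ⊥)
      (fun s _ v hv => by
        rw [Submodule.mem_bot] at hv ⊢
        rw [hv, map_zero]) bot_ne_top
    have hne0 : finrank F W ≠ 0 := by
      intro h3
      rw [← hW, Submodule.finrank_eq_zero.1 h3] at hv2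
      exact hv1 hv2
    have hne1 : finrank F W ≠ 1 := by
      intro h3
      rw [h3] at h2
      apply n21
      intro g hg v hv
      rw [← h2] at hv ⊢
      exact hWi g hg v hv
    intro v hv
    have h4 : v ∈ W := by
      rw [h2]
      exact fl_mono N (by omega) hv
    have h5 := h4 x hx2
    rwa [Submodule.mem_bot, sub_eq_zero] at h5
  have hC : ∀ v, ρ s v - v ∈ fl N 2 := fun v =>
    (flag hu h1 S.isPGroup' huS 2).2 s hs v (by rw [hfl3]; trivial)
  have hD : ∀ v ∈ fl N 1, ρ s v = v := by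
    intro v hv
    have h2 := (flag hu h1 S.isPGroup' huS 0).2 s hs v hv
    rwa [fl_zero, Submodule.mem_bot, sub_eq_zero] at h2
  apply hρ
  ext v
  rw [rho_mul, rho_mul]
  have h2 := hB _ (hC v)
  have h3 := hD _ (hA v)
  rw [map_sub] at h2 h3
  have h4 : ρ x (ρ s v) = (ρ s v - v) + ρ x v := by rw [← h2]; abel
  have h5 : ρ s (ρ x v) = (ρ x v - v) + ρ s v := by rw [← h3]; abel
  rw [h4, h5]
  abel

end Rep

end Cfsg.Agent.H96.Tall.Lin
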